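import Groth.Agent.L02.Cons.Fibrewise
import Groth.Agent.L02.CMMor.Groupoid
import Groth.Agent.L20.GenericFreeness
import Mathlib.AlgebraicGeometry.Pullbacks

/-! Points where the fibre is Cohen–Macaulay. -/

set_option autoImplicit false
set_option linter.style.haveILetI false
universe u

open CategoryTheory CategoryTheory.Limits AlgebraicGeometry IsLocalRing Topology
open Groth.L21.GorensteinBaseChange

namespace L02.Cons

/-- The fibre through a point is Cohen–Macaulay there. -/
def FCM {X S : Scheme.{u}} (f : X ⟶ S) (x : X) : Prop :=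
  LocCoh.IsCohenMacaulayLocalRing ((f.fiber (f x)).presheaf.stalk (f.asFiber x))

variable {X Y Z : Scheme.{u}}

theorem fcm_baseChange {X' Y' : Scheme.{u}} (f : X ⟶ Y) [LocallyOfFiniteType f] (g : Y' ⟶ Y) (f' : X' ⟶ Y')
    (g' : X' ⟶ X) (hsq : IsPullback g' f' f g) (x' : X') : FCM f' x' ↔ FCM f (g' x') := by
  haveI : LocallyOfFiniteType f' := MorphismProperty.of_isPullback hsq inferInstance
  set y' := f' x'
  letI : Algebra (Y.residueField (g y')) (Y'.residueField y') := (g.residueFieldMap y').hom.toAlgebra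
  haveI : LocallyOfFiniteType (f.fiberToSpecResidueField (g y')) :=
    (inferInstance : LocallyOfFiniteType (pullback.snd f (Y.fromSpecResidueField (g y'))))
  haveI : LocallyOfFiniteType (f'.fiberToSpecResidueField y') :=
    (inferInstance : LocallyOfFiniteType (pullback.snd f' (Y'.fromSpecResidueField y')))
  haveI := LocallyOfFiniteType.isLocallyNoetherian (f.fiberToSpecResidueField (g y'))
  haveI := LocallyOfFiniteType.isLocallyNoetherian (f'.fiberToSpecResidueField y')
  have sq := isPullback_fiberToSpecResidueField_of_isPullback hsq y'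
  have key := L02.CMMor.cm_iff_of_isPullback (k := Y.residueField (g y')) (k' := Y'.residueField y')
    (f.fiberToSpecResidueField (g y')) sq (L02.CMMor.res_of_locallyOfFiniteType _) (f'.asFiber x')
  let m : f'.fiber y' ⟶ f.fiber (g y') := pullback.map f' (Y'.fromSpecResidueField y') f
    (Y.fromSpecResidueField (g y')) g' (Spec.map (g.residueFieldMap y')) g hsq.w.symm (by simp)
  have hmc : m ≫ f.fiberι (g y') = f'.fiberι y' ≫ g' := pullback.lift_fst _ _ _
  have hm : f.fiberι (g y') (m (f'.asFiber x')) = g' x' :=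
    ((congrArg (fun t : f'.fiber y' ⟶ X => t (f'.asFiber x')) hmc).trans
      (congrArg g' (f'.fiberι_asFiber x')))
  letI := (f.stalkMap (g' x')).hom.toAlgebra
  obtain ⟨e⟩ := Groth.L07.CIScheme.exists_fiberStalkEquiv f (g y') _ (g' x') hm
  exact ⟨fun h => (L02.CMMor.cm_fibre_iff f (g' x')).1 (L02.CMMor.cm_of_ringEquiv e.symm (key.1 h)),
    fun h => key.2 (L02.CMMor.cm_of_ringEquiv e ((L02.CMMor.cm_fibre_iff f (g' x')).2 h))⟩

theorem fcm_iff_quot (f : X ⟶ Y) (x : X) : FCM f x ↔
    LocCoh.IsCohenMacaulayLocalRing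
      (X.presheaf.stalk x ⧸ (maximalIdeal (Y.presheaf.stalk (f x))).map (f.stalkMap x).hom) :=
  (L02.CMMor.cm_fibre_iff f x).symm

theorem fcm_openImmersion_comp (j : X ⟶ Y) [IsOpenImmersion j] (f : Y ⟶ Z) (x : X) :
    FCM (j ≫ f) x ↔ FCM f (j x) := by
  rw [fcm_iff_quot, fcm_iff_quot]
  let e : Y.presheaf.stalk (j x) ≃+* X.presheaf.stalk x := (asIso (j.stalkMap x)).commRingCatIsoToRingEquiv
  have h : ((j ≫ f).stalkMap x).hom = e.toRingHom.comp (f.stalkMap (j x)).hom :=
    congrArg CommRingCat.Hom.hom (Scheme.Hom.stalkMap_comp j f x)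
  let q : (Y.presheaf.stalk (j x) ⧸ (maximalIdeal (Z.presheaf.stalk (f (j x)))).map (f.stalkMap (j x)).hom) ≃+*
      (X.presheaf.stalk x ⧸ (maximalIdeal (Z.presheaf.stalk ((j ≫ f) x))).map ((j ≫ f).stalkMap x).hom) :=
    Ideal.quotientEquiv _ _ e (by rw [h]; exact (Ideal.map_map _ e.toRingHom).symm)
  exact ⟨L02.CMMor.cm_of_ringEquiv q.symm, L02.CMMor.cm_of_ringEquiv q⟩

theorem fcm_comp_openImmersion (f : X ⟶ Y) (j : Y ⟶ Z) [IsOpenImmersion j] (x : X) :
    FCM (f ≫ j) x ↔ FCM f x := by
  rw [fcm_iff_quot, fcm_iff_quot]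
  let e : Z.presheaf.stalk (j (f x)) ≃+* Y.presheaf.stalk (f x) :=
    (asIso (j.stalkMap (f x))).commRingCatIsoToRingEquiv
  have h : ((f ≫ j).stalkMap x).hom = (f.stalkMap x).hom.comp e.toRingHom :=
    congrArg CommRingCat.Hom.hom (Scheme.Hom.stalkMap_comp f j x)
  let q : (X.presheaf.stalk x ⧸ (maximalIdeal (Y.presheaf.stalk (f x))).map (f.stalkMap x).hom) ≃+*
      (X.presheaf.stalk x ⧸ (maximalIdeal (Z.presheaf.stalk ((f ≫ j) x))).map ((f ≫ j).stalkMap x).hom) :=
    Ideal.quotEquivOfEq (by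
      rw [h]
      exact (congrArg (Ideal.map _) (IsLocalRing.map_maximalIdeal_of_surjective e.toRingHom e.surjective).symm).trans
        (Ideal.map_map e.toRingHom _))
  exact ⟨L02.CMMor.cm_of_ringEquiv q.symm, L02.CMMor.cm_of_ringEquiv q⟩

/-- The ring form. -/
def fcmSet : PtProp.{u} := fun R A _ _ _ =>
  {q | FCM (Spec.map (CommRingCat.ofHom (algebraMap R A))) q}

theorem fcmSet_bc : PtProp.BC.{u} fcmSet := by
  intro R A R' A' _ _ _ _ _ _ _ _ _ _ _ _ _
  haveI : LocallyOfFiniteType (Spec.map (CommRingCat.ofHom (algebraMap R A))) :=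
    HasRingHomProperty.Spec_iff.mpr (RingHom.finiteType_algebraMap.mpr inferInstance)
  ext q
  exact fcm_baseChange (Spec.map (CommRingCat.ofHom (algebraMap R A)))
    (Spec.map (CommRingCat.ofHom (algebraMap R R'))) (Spec.map (CommRingCat.ofHom (algebraMap R' A')))
    (Spec.map (CommRingCat.ofHom (algebraMap A A')))
    (isPullback_SpecMap_of_isPushout _ _ _ _ (CommRingCat.isPushout_of_isPushout R R' A A')).flip q

theorem fcmSet_generic : PtProp.Generic.{u} fcmSet := by
  intro R A _ _ _ _ _ _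
  obtain ⟨f, hf, hfree, -⟩ := Groth.L20.GF.exists_free_and_nearlyFP (R := R) (S := A) A
  refine ⟨f, hf, ?_⟩
  let Rf := Localization.Away f
  let B := TensorProduct R Rf A
  let π : Spec (CommRingCat.of A) ⟶ Spec (CommRingCat.of R) := Spec.map (CommRingCat.ofHom (algebraMap R A))
  haveI : LocallyOfFinitePresentation π := HasRingHomProperty.Spec_iff.mpr
    (RingHom.finitePresentation_algebraMap.mpr (Algebra.FinitePresentation.of_finiteType.1 inferInstance))
  let V : (Spec (CommRingCat.of R)).Opens := PrimeSpectrum.basicOpen f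
  let g : Spec (CommRingCat.of B) ⟶ Spec (CommRingCat.of Rf) := Spec.map (CommRingCat.ofHom (algebraMap Rf B))
  letI : Algebra A B := Algebra.TensorProduct.rightAlgebra
  let p : Spec (CommRingCat.of B) ⟶ Spec (CommRingCat.of A) := Spec.map (CommRingCat.ofHom (algebraMap A B))
  have sq : IsPullback p g π (Spec.map (CommRingCat.ofHom (algebraMap R Rf))) :=
    (isPullback_SpecMap_of_isPushout _ _ _ _ (CommRingCat.isPushout_of_isPushout R Rf A B)).flip
  haveI : Flat g := Flat.SpecMap_iff.mpr (RingHom.flat_algebraMap_iff.mpr inferInstance)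
  haveI : LocallyOfFinitePresentation g := MorphismProperty.of_isPullback sq inferInstance
  haveI : IsOpenImmersion (Spec.map (CommRingCat.ofHom (algebraMap R Rf))) := IsOpenImmersion.of_isLocalization f
  haveI : IsOpenImmersion p := MorphismProperty.of_isPullback sq.flip inferInstance
  have heq : fcmSet R A ∩ PrimeSpectrum.comap (algebraMap R A) ⁻¹' (PrimeSpectrum.basicOpen f : Set (PrimeSpectrum R)) =
      p '' {q | MoreMor.IsCMAt g q} := by
    ext q
    constructor
    · rintro ⟨hq, hqf⟩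
      have h1 : π q ∈ Set.range (Spec.map (CommRingCat.ofHom (algebraMap R Rf))) := by
        show PrimeSpectrum.comap (algebraMap R A) q ∈ Set.range (PrimeSpectrum.comap (algebraMap R Rf))
        rw [PrimeSpectrum.localization_away_comap_range Rf f]
        exact hqf
      obtain ⟨z, hz⟩ := h1
      obtain ⟨b, hb, -⟩ := Scheme.exists_preimage_of_isPullback sq q z hz.symm
      refine ⟨b, ⟨Flat.stalkMap g b, (fcm_baseChange π _ g p sq b).2 ?_⟩, hb⟩
      rw [hb]
      exact hq
    · rintro ⟨b, hb, rfl⟩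
      refine ⟨(fcm_baseChange π _ g p sq b).1 hb.2, ?_⟩
      show π (p b) ∈ PrimeSpectrum.basicOpen f
      rw [← Scheme.Hom.comp_apply, sq.w, Scheme.Hom.comp_apply]
      have : Spec.map (CommRingCat.ofHom (algebraMap R Rf)) (g b) ∈ Set.range (PrimeSpectrum.comap (algebraMap R Rf)) := ⟨_, rfl⟩
      rwa [PrimeSpectrum.localization_away_comap_range Rf f] at this
  rw [heq]
  haveI : IsNoetherianRing A := Algebra.FiniteType.isNoetherianRing R A
  exact Groth.L06.Constr.isConstructible_of_isOpen (X := PrimeSpectrum A)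
    (p.isOpenEmbedding.isOpenMap _ (L02.CMMor.isOpen_cmLocus g))

theorem isLocallyConstructible_fcm (f : X ⟶ Y) [LocallyOfFinitePresentation f] :
    IsLocallyConstructible {x : X | FCM f x} := by
  refine isLocallyConstructible_source f _ fun V hV U hU hUV => ?_
  algebraize [(f.appLE V U hUV).hom]
  haveI : Algebra.FinitePresentation Γ(Y, V) Γ(X, U) := f.finitePresentation_appLE hV hU hUV
  have h := isConstructible fcmSet_bc fcmSet_generic Γ(Y, V) Γ(X, U)
  refine (?_ : hU.fromSpec ⁻¹' {x : X | FCM f x} = fcmSet Γ(Y, V) Γ(X, U)) ▸ h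
  ext q
  show FCM f (hU.fromSpec q) ↔ FCM (Spec.map (f.appLE V U hUV)) q
  rw [← fcm_openImmersion_comp hU.fromSpec f q, ← IsAffineOpen.SpecMap_appLE_fromSpec f hV hU hUV,
    fcm_comp_openImmersion]

end L02.Cons

namespace L02.Cons

theorem isLocallyConstructible_compl {T : Type*} [TopologicalSpace T] {s : Set T} (h : IsLocallyConstructible s) :
    IsLocallyConstructible sᶜ := fun x => by
  obtain ⟨U, hU, hUo, hc⟩ := h x
  exact ⟨U, hU, hUo, hc.compl⟩

theorem fcm_fiberι {X S : Scheme.{u}} (f : X ⟶ S) (s : S) (z : ↥(f.fiber s)) :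
    FCM f (f.fiberι s z) ↔ LocCoh.IsCohenMacaulayLocalRing ((f.fiber s).presheaf.stalk z) := by
  have key : ∀ (x : X) (s : S) (_ : f x = s) (z : ↥(f.fiber s)), f.fiberι s z = x →
      (FCM f x ↔ LocCoh.IsCohenMacaulayLocalRing ((f.fiber s).presheaf.stalk z)) := by
    rintro x s rfl z hz
    rw [(f.fiberι (f x)).isEmbedding.injective (hz.trans (f.fiberι_asFiber x).symm)]
    rfl
  refine key _ s ?_ z rfl
  have h : f.fiberι s z ∈ Set.range (f.fiberι s) := ⟨z, rfl⟩
  rw [f.range_fiberι] at h
  exact h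

theorem isLocallyConstructible_forall_fcm {X S : Scheme.{u}} (f : X ⟶ S)
    [LocallyOfFinitePresentation f] [QuasiCompact f] :
    IsLocallyConstructible {s : S | ∀ z : ↥(f.fiber s),
      LocCoh.IsCohenMacaulayLocalRing ((f.fiber s).presheaf.stalk z)} := by
  have h := isLocallyConstructible_compl
    (f.isLocallyConstructible_image (isLocallyConstructible_compl (isLocallyConstructible_fcm f)))
  convert h using 1
  refine Set.ext fun s => Iff.symm ?_
  constructor
  · intro hs z
    by_contra hz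
    exact hs ⟨f.fiberι s z, fun hx => hz ((fcm_fiberι f s z).1 hx), (by
      have h : f.fiberι s z ∈ Set.range (f.fiberι s) := ⟨z, rfl⟩
      rw [f.range_fiberι] at h
      exact h)⟩
  · rintro hs ⟨x, hx, rfl⟩
    refine hx ?_
    have := (fcm_fiberι f (f x) (f.asFiber x)).2 (hs _)
    rwa [f.fiberι_asFiber] at this

end L02.Cons
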