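import Groth.Agent.L06.Constr
import Mathlib.RingTheory.Extension.Presentation.Core
import Mathlib.RingTheory.Spectrum.Prime.Chevalley
import Mathlib.RingTheory.FiniteStability
import Mathlib.AlgebraicGeometry.Morphisms.FinitePresentation

/-! Constructibility of fibrewise defined loci: reduction to a generic statement over Noetherian domains. -/

set_option autoImplicit false
set_option linter.style.haveILetI false
universe u

open TensorProduct Topology PrimeSpectrum

namespace L02.Cons

theorem isConstructible_comap_preimage {R S : Type u} [CommRing R] [CommRing S] (f : R →+* S)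
    {s : Set (PrimeSpectrum R)} (hs : IsConstructible s) : IsConstructible (comap f ⁻¹' s) := by
  obtain ⟨T, rfl⟩ := exists_constructibleSetData_iff.mpr hs
  rw [← ConstructibleSetData.toSet_map]
  exact ConstructibleSetData.isConstructible_toSet _

/-- A property of points of the spectrum of an algebra. -/
abbrev PtProp := ∀ (R A : Type u) [CommRing R] [CommRing A] [Algebra R A], Set (PrimeSpectrum A)

/-- Invariance under base change. -/
def PtProp.BC (P : PtProp.{u}) : Prop :=
  ∀ (R A R' A' : Type u) [CommRing R] [CommRing A] [CommRing R'] [CommRing A'] [Algebra R A] [Algebra R R']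
    [Algebra R' A'] [Algebra A A'] [Algebra R A'] [IsScalarTower R R' A'] [IsScalarTower R A A']
    [Algebra.FinitePresentation R A] [Algebra.IsPushout R R' A A'],
    P R' A' = comap (algebraMap A A') ⁻¹' P R A

/-- Constructibility over a dense open of a Noetherian integral base. -/
def PtProp.Generic (P : PtProp.{u}) : Prop :=
  ∀ (R A : Type u) [CommRing R] [IsDomain R] [IsNoetherianRing R] [CommRing A] [Algebra R A]
    [Algebra.FiniteType R A], ∃ f : R, f ≠ 0 ∧
      IsConstructible (P R A ∩ comap (algebraMap R A) ⁻¹' (basicOpen f : Set (PrimeSpectrum R)))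

theorem isConstructible_of_noetherian {P : PtProp.{u}} (hbc : P.BC) (hgen : P.Generic)
    (R A : Type u) [CommRing R] [IsNoetherianRing R] [CommRing A] [Algebra R A]
    [Algebra.FinitePresentation R A] : IsConstructible (P R A) := by
  haveI : IsNoetherianRing A := Algebra.FiniteType.isNoetherianRing R A
  let π := comap (algebraMap R A)
  suffices ∀ C : Set (PrimeSpectrum R), IsClosed C → IsConstructible (P R A ∩ π ⁻¹' C) by
    simpa using this _ isClosed_univ
  intro C hC
  refine Groth.L06.Constr.closed_induction (P := fun C => IsConstructible (P R A ∩ π ⁻¹' C)) ?_ ?_ ?_ hC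
  · simp
  · intro C hC hirr ih
    obtain ⟨p, hp⟩ := QuasiSober.sober hirr hC
    let B := R ⧸ p.asIdeal
    haveI : IsDomain B := Ideal.Quotient.isDomain _
    obtain ⟨f, hf0, hK⟩ := hgen B (B ⊗[R] A)
    obtain ⟨f, rfl⟩ := Ideal.Quotient.mk_surjective f
    letI : Algebra A (B ⊗[R] A) := Algebra.TensorProduct.rightAlgebra
    haveI : Algebra.IsPushout R B A (B ⊗[R] A) := inferInstance
    rw [hbc R A B (B ⊗[R] A)] at hK
    set φ := algebraMap A (B ⊗[R] A)
    have hφ : Function.Surjective φ :=
      Algebra.TensorProduct.includeRight_surjective A Ideal.Quotient.mk_surjective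
    have himg : IsConstructible (comap φ '' (comap φ ⁻¹' P R A ∩
        comap (algebraMap B (B ⊗[R] A)) ⁻¹' (basicOpen (Ideal.Quotient.mk p.asIdeal f) : Set (PrimeSpectrum B)))) :=
      PrimeSpectrum.isConstructible_comap_image
        (RingHom.FinitePresentation.of_surjective _ hφ (IsNoetherian.noetherian _)) hK
    have hcomm : ∀ Q : PrimeSpectrum (B ⊗[R] A),
        π (comap φ Q) = comap (Ideal.Quotient.mk p.asIdeal) (comap (algebraMap B (B ⊗[R] A)) Q) := fun Q => by
      show comap (algebraMap R A) (comap φ Q) = _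
      rw [← comap_comp_apply, ← comap_comp_apply]
      exact congrArg (fun g => comap g Q)
        ((IsScalarTower.algebraMap_eq R A (B ⊗[R] A)).symm.trans (IsScalarTower.algebraMap_eq R B (B ⊗[R] A)))
    have heq : comap φ '' (comap φ ⁻¹' P R A ∩
        comap (algebraMap B (B ⊗[R] A)) ⁻¹' (basicOpen (Ideal.Quotient.mk p.asIdeal f) : Set (PrimeSpectrum B))) =
        P R A ∩ π ⁻¹' (C ∩ basicOpen f) := by
      ext q
      constructor
      · rintro ⟨Q, ⟨hQ, hQf⟩, rfl⟩
        refine ⟨hQ, ?_, ?_⟩
        · rw [← hp.def, PrimeSpectrum.closure_singleton, hcomm]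
          exact fun a ha => by
            simpa [Ideal.Quotient.eq_zero_iff_mem.2 ha] using
              Submodule.zero_mem (comap (algebraMap B (B ⊗[R] A)) Q).asIdeal
        · rw [hcomm]
          exact hQf
      · rintro ⟨hq, hqC, hqf⟩
        rw [← hp.def, PrimeSpectrum.closure_singleton] at hqC
        have hmem : q ∈ Set.range (comap φ) := by
          rw [range_comap_of_surjective _ _ hφ, mem_zeroLocus]
          have hk : RingHom.ker φ ≤ p.asIdeal.map (algebraMap R A) := fun x hx => by
            let ψ : B ⊗[R] A →ₐ[R] A ⧸ p.asIdeal.map (algebraMap R A) :=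
              Algebra.TensorProduct.lift (Ideal.quotientMapₐ _ (Algebra.ofId R A) Ideal.le_comap_map)
                (Ideal.Quotient.mkₐ R _) fun _ _ => Commute.all _ _
            have h2 : ψ ((1 : B) ⊗ₜ[R] x) = Ideal.Quotient.mk (p.asIdeal.map (algebraMap R A)) x := by simp [ψ]
            rw [← Ideal.Quotient.eq_zero_iff_mem, ← h2, show (1 : B) ⊗ₜ[R] x = φ x from rfl, hx, map_zero]
          exact fun x hx => (Ideal.map_le_iff_le_comap.2 hqC) (hk hx)
        obtain ⟨Q, rfl⟩ := hmem
        refine ⟨Q, ⟨hq, ?_⟩, rfl⟩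
        rw [hcomm] at hqf
        exact hqf
    have hsub : C \ basicOpen f ⊂ C := Groth.L06.Constr.sdiff_ssubset_of_nonempty ⟨p,
      fun h => hf0 (Ideal.Quotient.eq_zero_iff_mem.2 h), hp.mem⟩
    have hsplit : P R A ∩ π ⁻¹' C = (P R A ∩ π ⁻¹' (C ∩ basicOpen f)) ∪ (P R A ∩ π ⁻¹' (C \ basicOpen f)) := by
      rw [← Set.inter_union_distrib_left, ← Set.preimage_union, Set.inter_union_sdiff]
    show IsConstructible (P R A ∩ π ⁻¹' C)
    rw [hsplit]
    exact (heq ▸ himg).union (ih _ (hC.sdiff (basicOpen f).2) hsub)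
  · intro C D _ _ hC hD
    rw [Set.preimage_union, Set.inter_union_distrib_left]
    exact hC.union hD

theorem isConstructible_of_model {P : PtProp.{u}} (hbc : P.BC) (hgen : P.Generic)
    (R₀ A₀ R A : Type u) [CommRing R₀] [IsNoetherianRing R₀] [CommRing A₀] [Algebra R₀ A₀]
    [Algebra.FinitePresentation R₀ A₀] [CommRing R] [Algebra R₀ R] [CommRing A] [Algebra R A] [Algebra R₀ A]
    [IsScalarTower R₀ R A] (e : R ⊗[R₀] A₀ ≃ₐ[R] A) : IsConstructible (P R A) := by
  letI : Algebra A₀ A := ((e : R ⊗[R₀] A₀ →+* A).comp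
    (Algebra.TensorProduct.includeRight : A₀ →ₐ[R₀] R ⊗[R₀] A₀).toRingHom).toAlgebra
  haveI : IsScalarTower R₀ A₀ A := IsScalarTower.of_algebraMap_eq fun x => by
    show algebraMap R₀ A x = e (1 ⊗ₜ algebraMap R₀ A₀ x)
    rw [← Algebra.TensorProduct.algebraMap_apply', IsScalarTower.algebraMap_apply R₀ R (R ⊗[R₀] A₀),
      e.commutes, ← IsScalarTower.algebraMap_apply]
  haveI : Algebra.IsPushout R₀ R A₀ A :=
    letI : Algebra A₀ (R ⊗[R₀] A₀) := Algebra.TensorProduct.rightAlgebra
    Algebra.IsPushout.of_equiv e rfl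
  rw [hbc R₀ A₀ R A]
  exact isConstructible_comap_preimage _ (isConstructible_of_noetherian hbc hgen R₀ A₀)

/-- A fibrewise property which is constructible generically is constructible. -/
theorem isConstructible {P : PtProp.{u}} (hbc : P.BC) (hgen : P.Generic)
    (R A : Type u) [CommRing R] [CommRing A] [Algebra R A] [Algebra.FinitePresentation R A] :
    IsConstructible (P R A) := by
  let Pr := Algebra.Presentation.ofFinitePresentation R A
  let R₀ : Subalgebra ℤ R := Algebra.adjoin ℤ Pr.coeffs
  haveI : Pr.HasCoeffs R₀ := ⟨fun x hx => ⟨⟨x, Algebra.subset_adjoin hx⟩, rfl⟩⟩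
  haveI : Algebra.FiniteType ℤ R₀ :=
    (Subalgebra.fg_iff_finiteType _).mp ⟨Pr.finite_coeffs.toFinset, by simp [R₀]⟩
  haveI : IsNoetherianRing R₀ := Algebra.FiniteType.isNoetherianRing ℤ R₀
  exact isConstructible_of_model hbc hgen R₀ (Pr.ModelOfHasCoeffs R₀) R A
    (Pr.tensorModelOfHasCoeffsEquiv R₀)

section Scheme

open CategoryTheory AlgebraicGeometry

/-- A set of points of the source is locally constructible if it is given on affine charts by a constructible
fibrewise property. -/
theorem isLocallyConstructible_source {X S : Scheme.{u}} (f : X ⟶ S) (E : Set X)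
    (h : ∀ (V : S.Opens) (_ : IsAffineOpen V) (U : X.Opens) (hU : IsAffineOpen U) (hUV : U ≤ f ⁻¹ᵁ V),
      IsConstructible (hU.fromSpec ⁻¹' E)) : IsLocallyConstructible E := by
  intro x
  obtain ⟨_, ⟨V, hV, rfl⟩, hxV, -⟩ :=
    S.isBasis_affineOpens.exists_subset_of_mem_open (Set.mem_univ (f x)) isOpen_univ
  obtain ⟨_, ⟨U, hU, rfl⟩, hxU, hUV⟩ :=
    X.isBasis_affineOpens.exists_subset_of_mem_open hxV (f ⁻¹ᵁ V).2
  refine ⟨U, U.2.mem_nhds hxU, U.2, ?_⟩
  let e : Spec Γ(X, U) ≃ₜ (U : Set X) := (hU.fromSpec.isOpenEmbedding.isEmbedding.toHomeomorph).trans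
    (Homeomorph.setCongr hU.range_fromSpec)
  have := (h V hV U hU hUV).preimage_of_isOpenEmbedding e.symm.isOpenEmbedding
  convert this using 1
  ext ⟨y, hy⟩
  have : hU.fromSpec (e.symm ⟨y, hy⟩) = y := congrArg Subtype.val (e.apply_symm_apply ⟨y, hy⟩)
  simp only [Set.mem_preimage]
  rw [this]

end Scheme

end L02.Cons
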